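import Mathlib

/-!
A non-trivial word of a free group is not a law, not even modulo the centre, in `SL₂` of a large finite field and
in large symmetric and alternating groups.

The substitution `xᵢ ↦ u(X^(2i+1)) n(X) n(X^(2i+2))` in `SL₂(ℤ[X])`, where `u(s) = [1 s; 0 1]` and
`n(s) = w u(s)`, sends every non-trivial reduced word to a matrix whose lower left entry is non-zero in every
characteristic, by a degree argument on continuants.
-/

namespace CfsgLib.GroupLaws

open Polynomial Matrix
open scoped MatrixGroups commutatorElement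

/-- `w` is not a law modulo the centre in `G`. -/
def IsNonLaw (w : FreeGroup ℕ) (G : Type*) [Group G] : Prop :=
  ∃ f : ℕ → G, FreeGroup.lift f w ∉ Subgroup.center G

theorem lift_comp_apply {G H : Type*} [Group G] [Group H] (φ : G →* H) (f : ℕ → G)
    (w : FreeGroup ℕ) : φ (FreeGroup.lift f w) = FreeGroup.lift (fun i => φ (f i)) w :=
  FreeGroup.lift_unique (φ.comp (FreeGroup.lift f)) (fun i => by simp)

theorem IsNonLaw.map {w : FreeGroup ℕ} {G H : Type*} [Group G] [Group H] (h : IsNonLaw w G)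
    (φ : G →* H) (hφ : Function.Injective φ) : IsNonLaw w H := by
  obtain ⟨f, hf⟩ := h
  refine ⟨fun i => φ (f i), fun hc => hf ?_⟩
  rw [← lift_comp_apply] at hc
  rw [Subgroup.mem_center_iff] at hc ⊢
  exact fun g => hφ (by simpa using hc (φ g))

theorem IsNonLaw.exists_quotient {w : FreeGroup ℕ} {G : Type*} [Group G] (h : IsNonLaw w G) :
    ∃ f : ℕ → G ⧸ Subgroup.center G, FreeGroup.lift f w ≠ 1 := by
  obtain ⟨f, hf⟩ := h
  refine ⟨fun i => QuotientGroup.mk' _ (f i), fun hc => hf ?_⟩
  rw [← lift_comp_apply] at hc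
  exact (QuotientGroup.eq_one_iff _).1 hc

theorem IsNonLaw.exists_ne_one {w : FreeGroup ℕ} {G : Type*} [Group G] (h : IsNonLaw w G) :
    ∃ f : ℕ → G, FreeGroup.lift f w ≠ 1 := by
  obtain ⟨f, hf⟩ := h
  exact ⟨f, fun hc => hf (by rw [hc]; exact one_mem _)⟩

/-- The map induced on commutator subgroups. -/
def commutatorMap {G H : Type*} [Group G] [Group H] (φ : G →* H) :
    commutator G →* commutator H :=
  (φ.comp (commutator G).subtype).codRestrict (commutator H) fun x => by
    have h : (commutator G).map φ ≤ commutator H := by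
      rw [commutator_def, commutator_def, Subgroup.map_commutator]
      exact Subgroup.commutator_mono le_top le_top
    exact h ⟨x.1, x.2, rfl⟩

theorem commutatorMap_coe {G H : Type*} [Group G] [Group H] (φ : G →* H) (x : commutator G) :
    (commutatorMap φ x : H) = φ x := rfl

theorem IsNonLaw.map_commutator {w : FreeGroup ℕ} {G H : Type*} [Group G] [Group H]
    (h : IsNonLaw w (commutator G)) (φ : G →* H) (hφ : Function.Injective φ) :
    IsNonLaw w (commutator H) :=
  h.map (commutatorMap φ) fun _ _ hab => Subtype.ext (hφ (congrArg Subtype.val hab))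

theorem IsNonLaw.of_commutator {w : FreeGroup ℕ} {G : Type*} [Group G]
    (h : IsNonLaw w (commutator G)) : IsNonLaw w G :=
  h.map _ (Subgroup.subtype_injective _)

/-! ### The matrices -/

section Matrices

variable {R : Type*} [CommRing R]

/-- The upper unitriangular matrix `[1 s; 0 1]`. -/
def uSL (s : R) : SL(2, R) := ⟨!![1, s; 0, 1], by simp [Matrix.det_fin_two]⟩

/-- The matrix `[0 1; -1 0]`. -/
def wSL : SL(2, R) := ⟨!![0, 1; -1, 0], by simp [Matrix.det_fin_two]⟩

/-- The matrix `[0 1; -1 -s]`. -/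
def nSL (s : R) : SL(2, R) := wSL * uSL s

@[simp] theorem coe_uSL (s : R) : (uSL s : Matrix (Fin 2) (Fin 2) R) = !![1, s; 0, 1] := rfl

@[simp] theorem coe_wSL : ((wSL : SL(2, R)) : Matrix (Fin 2) (Fin 2) R) = !![0, 1; -1, 0] := rfl

theorem coe_nSL (s : R) : (nSL s : Matrix (Fin 2) (Fin 2) R) = !![0, 1; -1, -s] := by
  simp [nSL]

theorem uSL_add (s t : R) : uSL (s + t) = uSL s * uSL t := by
  ext i j
  fin_cases i <;> fin_cases j <;> simp [add_comm]

theorem nSL_mul_uSL (s t : R) : nSL s * uSL t = nSL (s + t) := by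
  rw [nSL, nSL, mul_assoc, uSL_add]

theorem word_inv (a c b : R) :
    (uSL a * nSL c * nSL b)⁻¹ = uSL (-b) * nSL (-c) * nSL (-a) := by
  refine inv_eq_of_mul_eq_one_right ?_
  ext i j
  fin_cases i <;> fin_cases j <;> simp [coe_nSL] <;> ring

theorem map_uSL {S : Type*} [CommRing S] (φ : R →+* S) (s : R) :
    Matrix.SpecialLinearGroup.map φ (uSL s) = uSL (φ s) := by
  ext i j
  fin_cases i <;> fin_cases j <;> simp [Matrix.SpecialLinearGroup.map_apply_coe]

theorem map_wSL {S : Type*} [CommRing S] (φ : R →+* S) :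
    Matrix.SpecialLinearGroup.map φ (wSL : SL(2, R)) = wSL := by
  ext i j
  fin_cases i <;> fin_cases j <;> simp [Matrix.SpecialLinearGroup.map_apply_coe]

theorem map_nSL {S : Type*} [CommRing S] (φ : R →+* S) (s : R) :
    Matrix.SpecialLinearGroup.map φ (nSL s) = nSL (φ s) := by
  rw [nSL, map_mul, map_uSL, map_wSL, nSL]

/-- The element substituted for the `i`-th variable. -/
noncomputable def gen (R : Type*) [CommRing R] (i : ℕ) : SL(2, R[X]) :=
  uSL (X ^ (2 * i + 1)) * nSL X * nSL (X ^ (2 * i + 2))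

/-- First parameter of a syllable. -/
noncomputable def sylA (R : Type*) [CommRing R] (l : ℕ × Bool) : R[X] :=
  cond l.2 (X ^ (2 * l.1 + 1)) (-(X ^ (2 * l.1 + 2)))

/-- Middle parameter of a syllable. -/
noncomputable def sylC (R : Type*) [CommRing R] (l : ℕ × Bool) : R[X] := cond l.2 X (-X)

/-- Last parameter of a syllable. -/
noncomputable def sylB (R : Type*) [CommRing R] (l : ℕ × Bool) : R[X] :=
  cond l.2 (X ^ (2 * l.1 + 2)) (-(X ^ (2 * l.1 + 1)))

theorem syl_eq (l : ℕ × Bool) :
    cond l.2 (gen R l.1) (gen R l.1)⁻¹ =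
      uSL (sylA R l) * nSL (sylC R l) * nSL (sylB R l) := by
  obtain ⟨i, b⟩ := l
  cases b
  · simp only [gen, sylA, sylB, sylC, cond_false, word_inv]
  · simp [gen, sylA, sylB, sylC]

end Matrices

/-! ### The degree argument -/

section Degree

variable {R : Type*} [CommRing R] [IsDomain R]

theorem degree_junction_pos {l l' : ℕ × Bool} (h : l.1 = l'.1 → l.2 = l'.2) :
    0 < (sylB R l + sylA R l').degree := by
  obtain ⟨i, b⟩ := l
  obtain ⟨j, c⟩ := l'
  have key : ∀ (P : R[X]) (n : ℕ), 0 < n → P.coeff n ≠ 0 → 0 < P.degree := fun P n hn hP =>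
    lt_of_lt_of_le (by exact_mod_cast hn) (le_degree_of_ne_zero hP)
  cases b <;> cases c
  · refine key _ (2 * i + 1) (by omega) ?_
    have h1 : 2 * i ≠ 2 * j + 1 := by omega
    have h2 : 2 * i + 1 ≠ 2 * j + 2 := by omega
    simp [sylA, sylB, coeff_X_pow, h1, h2]
  · refine key _ (2 * i + 1) (by omega) ?_
    have hij : i ≠ j := fun hh => by simpa using h hh
    have : 2 * i + 1 ≠ 2 * j + 1 := by omega
    simp [sylA, sylB, coeff_X_pow, this, hij]
  · refine key _ (2 * i + 2) (by omega) ?_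
    have hij : i ≠ j := fun hh => by simpa using h hh
    have : 2 * i + 2 ≠ 2 * j + 2 := by omega
    simp [sylA, sylB, coeff_X_pow, this, hij]
  · refine key _ (2 * i + 2) (by omega) ?_
    have : 2 * i + 2 ≠ 2 * j + 1 := by omega
    simp [sylA, sylB, coeff_X_pow, this]

theorem mul_nSL_row {M : SL(2, R[X])} {s : R[X]} :
    (M * nSL s : SL(2, R[X])) 1 0 = -(M 1 1) ∧ (M * nSL s : SL(2, R[X])) 1 1 = M 1 0 - s * M 1 1 := by
  constructor <;> simp [coe_nSL, Matrix.mul_apply, Fin.sum_univ_two] <;> ring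

theorem degree_mul_nSL {M : SL(2, R[X])} {s : R[X]} (h : (M 1 0).degree < (M 1 1).degree)
    (hs : 0 < s.degree) :
    ((M * nSL s : SL(2, R[X])) 1 0).degree < ((M * nSL s : SL(2, R[X])) 1 1).degree := by
  rw [mul_nSL_row.1, mul_nSL_row.2, degree_neg]
  have hy : M 1 1 ≠ 0 := fun hh => by simp [hh] at h
  have hlt : (M 1 1).degree < (s * M 1 1).degree := by
    rw [degree_mul, degree_eq_natDegree hy,
      degree_eq_natDegree (fun hh => by simp [hh] at hs : s ≠ 0)]
    have h2 := natDegree_pos_iff_degree_pos.2 hs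
    exact_mod_cast (by omega : (M 1 1).natDegree < s.natDegree + (M 1 1).natDegree)
  rw [degree_sub_eq_right_of_degree_lt (h.trans hlt)]
  exact hlt

theorem entry_ne_zero_aux :
    ∀ (L : List (ℕ × Bool)) (l : ℕ × Bool) (M : SL(2, R[X])),
      (l :: L).IsChain (fun a b => a.1 = b.1 → a.2 = b.2) →
      (M 1 0).degree < (M 1 1).degree →
      (M * nSL (sylB R l) * (L.map fun x => cond x.2 (gen R x.1) (gen R x.1)⁻¹).prod :
        SL(2, R[X])) 1 0 ≠ 0 := by
  intro L
  induction L with
  | nil =>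
    intro l M _ hM
    simp only [List.map_nil, List.prod_nil, mul_one, mul_nSL_row.1, ne_eq, neg_eq_zero]
    exact fun hh => by simp [hh] at hM
  | cons l' L ih =>
    intro l M hc hM
    rw [List.isChain_cons_cons] at hc
    have hpos := degree_junction_pos (R := R) hc.1
    have hC : 0 < (sylC R l').degree := by
      obtain ⟨i, b⟩ := l'
      cases b <;> simp [sylC]
    have e : M * nSL (sylB R l) *
        ((l' :: L).map fun x => cond x.2 (gen R x.1) (gen R x.1)⁻¹).prod =
      M * nSL (sylB R l + sylA R l') * nSL (sylC R l') * nSL (sylB R l') *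
        (L.map fun x => cond x.2 (gen R x.1) (gen R x.1)⁻¹).prod := by
      rw [List.map_cons, List.prod_cons, syl_eq, ← nSL_mul_uSL]
      simp only [mul_assoc]
    rw [e]
    exact ih l' _ hc.2 (degree_mul_nSL (degree_mul_nSL hM hpos) hC)

theorem gen_entry_ne_zero {w : FreeGroup ℕ} (hw : w ≠ 1) :
    (FreeGroup.lift (gen R) w : SL(2, R[X])) 1 0 ≠ 0 := by
  rw [← FreeGroup.mk_toWord (x := w), FreeGroup.lift_mk]
  have hc : FreeGroup.IsReduced w.toWord := FreeGroup.isReduced_toWord
  generalize hL : w.toWord = L at hc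
  rcases L with _ | ⟨l, L⟩
  · exact absurd (FreeGroup.toWord_eq_nil_iff.1 hL) hw
  · have hC : 0 < (sylC R l).degree := by
      obtain ⟨i, b⟩ := l
      cases b <;> simp [sylC]
    rw [List.map_cons, List.prod_cons, syl_eq]
    refine entry_ne_zero_aux L l _ hc (degree_mul_nSL ?_ hC)
    simp

end Degree

/-! ### Specialisation -/

section Specialisation

theorem uSL_mem_commutator {F : Type*} [Field F] [Fintype F] (hF : 4 ≤ Fintype.card F) (x : F) :
    uSL x ∈ commutator SL(2, F) := by
  classical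
  obtain ⟨a, ha0, ha2⟩ : ∃ a : F, a ≠ 0 ∧ a ^ 2 ≠ 1 := by
    by_contra hne
    push Not at hne
    have hsub : (Finset.univ : Finset F) ⊆ {0, 1, -1} := by
      intro a _
      by_cases ha : a = 0
      · simp [ha]
      · rcases sq_eq_one_iff.1 (hne a ha) with h | h <;> simp [h]
    have h1 := Finset.card_le_card hsub
    have h2 : ({0, 1, -1} : Finset F).card ≤ 3 := Finset.card_le_three
    rw [Finset.card_univ] at h1
    omega
  obtain ⟨d, hdc⟩ : ∃ d : SL(2, F), (d : Matrix (Fin 2) (Fin 2) F) = !![a, 0; 0, a⁻¹] :=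
    ⟨⟨!![a, 0; 0, a⁻¹], by simp [Matrix.det_fin_two, ha0]⟩, rfl⟩
  have hd : (a ^ 2 - 1) ≠ 0 := sub_ne_zero.2 ha2
  have e : uSL x = ⁅d, uSL (x / (a ^ 2 - 1))⁆ := by
    rw [commutatorElement_def, eq_mul_inv_iff_mul_eq, eq_mul_inv_iff_mul_eq]
    have hx : x + x / (a ^ 2 - 1) = x / (a ^ 2 - 1) * a ^ 2 := by
      field_simp
      ring
    rw [← uSL_add, hx]
    ext i j
    fin_cases i <;> fin_cases j <;> simp [hdc, Matrix.mul_apply, Fin.sum_univ_two] <;> field_simp
  rw [e, commutator_def]
  exact Subgroup.commutator_mem_commutator trivial trivial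

theorem wSL_mem_commutator {F : Type*} [Field F] [Fintype F] (hF : 4 ≤ Fintype.card F) :
    (wSL : SL(2, F)) ∈ commutator SL(2, F) := by
  have hu := uSL_mem_commutator hF (1 : F)
  have hn : (commutator SL(2, F)).Normal := inferInstance
  have e : (wSL : SL(2, F)) = uSL 1 * (wSL * uSL 1 * wSL⁻¹) * uSL 1 := by
    rw [show ∀ a b : SL(2, F), a * (b * a * b⁻¹) * a = (a * b) * a * (b⁻¹ * a) from
      fun a b => by simp only [mul_assoc]]
    ext i j
    fin_cases i <;> fin_cases j <;>
      simp [Matrix.mul_apply, Fin.sum_univ_two, Matrix.SpecialLinearGroup.coe_inv,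
        Matrix.adjugate_fin_two]
  rw [e]
  exact mul_mem (mul_mem hu (hn.conj_mem _ hu _)) hu

universe u in
theorem exists_isNonLaw_sl_two {w : FreeGroup ℕ} (hw : w ≠ 1) :
    ∃ N : ℕ, 4 ≤ N ∧ ∀ (F : Type u) [Field F] [Fintype F], N ≤ Fintype.card F →
      IsNonLaw w (commutator SL(2, F)) := by
  set P : ℤ[X] := (FreeGroup.lift (gen ℤ) w : SL(2, ℤ[X])) 1 0 with hPdef
  refine ⟨P.natDegree + 4, by omega, fun F _ _ hF => ?_⟩
  classical
  let ψ : ℤ[X] →+* F[X] := Polynomial.mapRingHom (Int.castRingHom F)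
  have hmap : Matrix.SpecialLinearGroup.map ψ (FreeGroup.lift (gen ℤ) w) =
      FreeGroup.lift (gen F) w := by
    rw [lift_comp_apply]
    congr 2
    funext i
    simp [gen, map_uSL, map_nSL, ψ]
  have hPF : P.map (Int.castRingHom F) ≠ 0 := by
    have h := gen_entry_ne_zero (R := F) hw
    rw [← hmap] at h
    simpa [hPdef, ψ, Matrix.SpecialLinearGroup.map_apply_coe] using h
  obtain ⟨α, hα⟩ : ∃ α : F, (P.map (Int.castRingHom F)).eval α ≠ 0 := by
    by_contra hne
    push Not at hne
    have hle := Finset.card_le_card (s := (Finset.univ : Finset F))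
      (t := (P.map (Int.castRingHom F)).roots.toFinset) (fun a _ => by
        simp [mem_roots hPF, hne a])
    have h2 := (Multiset.toFinset_card_le _).trans
      ((Polynomial.card_roots' (P.map (Int.castRingHom F))).trans natDegree_map_le)
    rw [Finset.card_univ] at hle
    omega
  let ev : ℤ[X] →+* F := (Polynomial.evalRingHom α).comp ψ
  have hmem : ∀ i, Matrix.SpecialLinearGroup.map ev (gen ℤ i) ∈ commutator SL(2, F) := by
    intro i
    have h4 : 4 ≤ Fintype.card F := by omega
    simp only [gen, map_mul, map_uSL, map_nSL]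
    simp only [nSL]
    exact mul_mem (mul_mem (uSL_mem_commutator h4 _)
      (mul_mem (wSL_mem_commutator h4) (uSL_mem_commutator h4 _)))
      (mul_mem (wSL_mem_commutator h4) (uSL_mem_commutator h4 _))
  refine ⟨fun i => ⟨_, hmem i⟩, fun hc => ?_⟩
  rw [Subgroup.mem_center_iff] at hc
  have hcomm := congrArg Subtype.val (hc ⟨uSL 1, uSL_mem_commutator (by omega) 1⟩)
  simp only [Subgroup.coe_mul] at hcomm
  have e1 : ((FreeGroup.lift (fun i => (⟨_, hmem i⟩ : commutator SL(2, F))) w) : SL(2, F)) =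
      Matrix.SpecialLinearGroup.map ev (FreeGroup.lift (gen ℤ) w) := by
    rw [← Subgroup.coe_subtype, lift_comp_apply, lift_comp_apply]
    rfl
  rw [e1] at hcomm
  have h00 := congrArg (fun M : SL(2, F) => M 1 1) hcomm
  apply hα
  simpa [Matrix.mul_apply, Fin.sum_univ_two, Matrix.SpecialLinearGroup.map_apply_coe, ev, ψ,
    hPdef] using h00

theorem exists_isNonLaw_perm {w : FreeGroup ℕ} (hw : w ≠ 1) :
    ∃ k₀ : ℕ, ∀ k, k₀ ≤ k → IsNonLaw w (commutator (Equiv.Perm (Fin k))) := by
  classical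
  obtain ⟨N, hN4, hN⟩ := exists_isNonLaw_sl_two.{0} hw
  obtain ⟨p, hpN, hp⟩ := Nat.exists_infinite_primes N
  have := Fact.mk hp
  refine ⟨Fintype.card SL(2, ZMod p), fun k hk => ?_⟩
  obtain ⟨e⟩ := Function.Embedding.nonempty_of_card_le (α := SL(2, ZMod p)) (β := Fin k)
    (by simpa using hk)
  refine (hN (ZMod p) (by rw [ZMod.card]; exact hpN)).map_commutator
    ((Equiv.Perm.viaEmbeddingHom e).comp (MulAction.toPermHom SL(2, ZMod p) SL(2, ZMod p))) ?_
  rw [MonoidHom.coe_comp]
  exact (Equiv.Perm.viaEmbeddingHom_injective e).comp MulAction.toPerm_injective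

theorem commutator_perm_le_alternatingGroup (k : ℕ) :
    commutator (Equiv.Perm (Fin k)) ≤ alternatingGroup (Fin k) :=
  Abelianization.commutator_subset_ker (A := ℤˣ) Equiv.Perm.sign

theorem exists_isNonLaw_alternatingGroup {w : FreeGroup ℕ} (hw : w ≠ 1) :
    ∃ k₀ : ℕ, ∀ k, k₀ ≤ k → IsNonLaw w (alternatingGroup (Fin k)) := by
  obtain ⟨k₀, hk₀⟩ := exists_isNonLaw_perm hw
  exact ⟨k₀, fun k hk => (hk₀ k hk).map (Subgroup.inclusion (commutator_perm_le_alternatingGroup k))
    (Subgroup.inclusion_injective _)⟩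

end Specialisation

end CfsgLib.GroupLaws
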