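import Cfsg.Prelude.Def_Classical
import Cfsg.Agent.Lib.GroupLaws.NonLaw

/-!
Embeddings of `GL_k` (hence of symmetric groups and of `SL₂`) into the classical matrix groups, used to show that a
non-trivial word is not a law modulo the centre in classical groups of large rank or over large fields.
-/

namespace CfsgLib.GroupLaws

open Matrix
open scoped MatrixGroups

section General

variable {n m : Type} [Fintype n] [DecidableEq n] [Fintype m] [DecidableEq m]
variable {R : Type*} [CommRing R]

/-- Reindexing as an isomorphism of general linear groups. -/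
def glReindex (e : n ≃ m) : GL n R ≃* GL m R :=
  Units.mapEquiv (Matrix.reindexAlgEquiv R R e).toMulEquiv

theorem glReindex_coe (e : n ≃ m) (A : GL n R) :
    (glReindex e A : Matrix m m R) = (A : Matrix n n R).submatrix e.symm e.symm := rfl

/-- `A ↦ diag(A, 1)`. -/
def glExtendHom : Matrix n n R →* Matrix (n ⊕ m) (n ⊕ m) R where
  toFun A := Matrix.fromBlocks A 0 0 1
  map_one' := Matrix.fromBlocks_one
  map_mul' A B := by simp [Matrix.fromBlocks_multiply]

variable (m) in
/-- `A ↦ diag(A, 1)` on units. -/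
def glExtend : GL n R →* GL (n ⊕ m) R := Units.map glExtendHom

theorem glExtend_injective : Function.Injective (glExtend (R := R) (n := n) m) := by
  intro A B h
  have h' := congrArg (fun X : GL (n ⊕ m) R => (X : Matrix (n ⊕ m) (n ⊕ m) R).toBlocks₁₁) h
  exact Units.ext (by simpa [glExtend, glExtendHom] using h')

/-- The permutation representation. -/
def permGL (n : Type) [Fintype n] [DecidableEq n] (R : Type*) [CommRing R] :
    Equiv.Perm n →* GL n R :=
  MonoidHom.toHomUnits
    { toFun := fun σ => (σ⁻¹ : Equiv.Perm n).permMatrix R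
      map_one' := by simp
      map_mul' := fun σ τ => by rw [_root_.mul_inv_rev, Matrix.permMatrix_mul] }

theorem permGL_mulVec (σ : Equiv.Perm n) (v : n → R) :
    (permGL n R σ : Matrix n n R) *ᵥ v = v ∘ (σ⁻¹ : Equiv.Perm n) :=
  Matrix.permMatrix_mulVec (σ⁻¹ : Equiv.Perm n)

theorem permGL_injective [Nontrivial R] : Function.Injective (permGL n R) := by
  intro σ τ h
  have h1 : ∀ v : n → R, v ∘ (σ⁻¹ : Equiv.Perm n) = v ∘ (τ⁻¹ : Equiv.Perm n) := fun v => by
    rw [← permGL_mulVec, ← permGL_mulVec, h]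
  apply inv_injective
  ext i
  have h2 := congrFun (h1 (Pi.single ((σ⁻¹ : Equiv.Perm n) i) 1)) i
  by_contra hne
  simp only [Function.comp_apply, Pi.single_eq_same, Pi.single_apply, Ne.symm hne, if_false] at h2
  exact one_ne_zero h2

/-- `A ↦ diag(A, A⁻ᵀ)`. -/
def glDouble : GL n R →* GL (n ⊕ n) R :=
  MonoidHom.toHomUnits
    { toFun := fun A => Matrix.fromBlocks (A : Matrix n n R) 0 0 ((A⁻¹ : GL n R) : Matrix n n R)ᵀ
      map_one' := by simp
      map_mul' := fun A B => by
        simp [Matrix.fromBlocks_multiply, _root_.mul_inv_rev, Matrix.transpose_mul] }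

theorem glDouble_coe (A : GL n R) : (glDouble A : Matrix (n ⊕ n) (n ⊕ n) R) =
    Matrix.fromBlocks (A : Matrix n n R) 0 0 ((A⁻¹ : GL n R) : Matrix n n R)ᵀ := rfl

theorem glDouble_injective : Function.Injective (glDouble (R := R) (n := n)) := by
  intro A B h
  have h' := congrArg (fun X : GL (n ⊕ n) R => (X : Matrix (n ⊕ n) (n ⊕ n) R).toBlocks₁₁) h
  exact Units.ext (by simpa [glDouble_coe] using h')

end General

section Classical

variable (F : Type*) [Field F]

/-- `GL_m → Sp_{2m}`. -/
def glToSp (m : ℕ) : GL (Fin m) F →* Matrix.symplecticGroup (Fin m) F :=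
  ((Units.coeHom _).comp glDouble).codRestrict _ fun A => by
    rw [SymplecticGroup.mem_iff, MonoidHom.comp_apply, Units.coeHom_apply, glDouble_coe,
      Matrix.J, Matrix.fromBlocks_transpose, Matrix.fromBlocks_multiply,
      Matrix.fromBlocks_multiply]
    simp [← Matrix.transpose_mul]

theorem glToSp_injective (m : ℕ) : Function.Injective (glToSp F m) := fun _ _ h =>
  glDouble_injective (Units.ext (congrArg Subtype.val h))

theorem glDouble_preserves_sum {n : Type} [Fintype n] [DecidableEq n] (A : GL n F)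
    (v : n ⊕ n → F) :
    ∑ i, ((glDouble A : Matrix (n ⊕ n) (n ⊕ n) F) *ᵥ v) (.inl i) *
        ((glDouble A : Matrix (n ⊕ n) (n ⊕ n) F) *ᵥ v) (.inr i) =
      ∑ i, v (.inl i) * v (.inr i) := by
  have h : ((A : Matrix n n F) *ᵥ (v ∘ Sum.inl)) ⬝ᵥ
      (((A⁻¹ : GL n F) : Matrix n n F)ᵀ *ᵥ (v ∘ Sum.inr)) = (v ∘ Sum.inl) ⬝ᵥ (v ∘ Sum.inr) := by
    rw [Matrix.dotProduct_mulVec, Matrix.vecMul_transpose, Matrix.mulVec_mulVec,
      Units.inv_mul, Matrix.one_mulVec]
  rw [glDouble_coe, Matrix.fromBlocks_mulVec]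
  simpa [dotProduct, Matrix.zero_mulVec] using h

/-- `GL_m → O⁺_{2m}`. -/
def glToOrthPlus (m : ℕ) : GL (Fin m) F →* Cfsg.isometryGroup F (Cfsg.quadFormPlus m F) :=
  glDouble.codRestrict _ fun A u _ => glDouble_preserves_sum F A u

/-- `GL_m → O⁻_{2m+2}`. -/
def glToOrthMinus (m : ℕ) (a b : F) :
    GL (Fin m) F →* Cfsg.isometryGroup F (Cfsg.quadFormMinus m F a b) :=
  ((glExtend (Fin 2)).comp glDouble).codRestrict _ fun A u _ => by
    have h := glDouble_preserves_sum F A (u ∘ Sum.inl)
    simp only [Cfsg.quadFormMinus, Units.coeHom_apply, MonoidHom.comp_apply, glExtend,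
      Units.coe_map, glExtendHom, MonoidHom.coe_mk, OneHom.coe_mk, Matrix.fromBlocks_mulVec,
      Matrix.zero_mulVec, Matrix.one_mulVec, add_zero, zero_add, Sum.elim_inl, Sum.elim_inr,
      Function.comp_apply]
    simpa using h

/-- `GL_m → O_{2m+1}`. -/
def glToOrthOdd (m : ℕ) : GL (Fin m) F →* Cfsg.isometryGroup F (Cfsg.quadFormOdd m F) :=
  (((glReindex (Equiv.sumComm (Fin m ⊕ Fin m) Unit)).toMonoidHom.comp (glExtend Unit)).comp
      glDouble).codRestrict _ fun A u _ => by
    have h := glDouble_preserves_sum F A (u ∘ Sum.inr)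
    simp only [Cfsg.quadFormOdd, Units.coeHom_apply, MonoidHom.comp_apply, glExtend,
      Units.coe_map, glExtendHom, glReindex_coe, MulEquiv.toMonoidHom_eq_coe, MonoidHom.coe_coe,
      MonoidHom.coe_mk, OneHom.coe_mk,
      Matrix.submatrix_mulVec_equiv, Function.comp_apply, Matrix.fromBlocks_mulVec]
    simpa [Function.comp_def, Matrix.fromBlocks_mulVec] using h

theorem glToOrthPlus_injective (m : ℕ) : Function.Injective (glToOrthPlus F m) := fun _ _ h =>
  glDouble_injective (congrArg Subtype.val h)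

theorem glToOrthMinus_injective (m : ℕ) (a b : F) :
    Function.Injective (glToOrthMinus F m a b) := fun _ _ h =>
  glDouble_injective (glExtend_injective (congrArg Subtype.val h))

theorem glToOrthOdd_injective (m : ℕ) : Function.Injective (glToOrthOdd F m) := fun _ _ h =>
  glDouble_injective (glExtend_injective ((glReindex _).injective (congrArg Subtype.val h)))

/-- The unitary group of `hermForm` inside `GL`. -/
def unitaryGL (n : ℕ) (q : ℕ) : Subgroup (GL (Fin n) F) :=
  Cfsg.preserving (Units.coeHom (Matrix (Fin n) (Fin n) F)) (Cfsg.hermForm n F q)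

theorem permGL_mem_unitaryGL (n q : ℕ) (σ : Equiv.Perm (Fin n)) :
    permGL (Fin n) F σ ∈ unitaryGL F n q := by
  intro u v
  simp only [Units.coeHom_apply, permGL_mulVec, Cfsg.hermForm, Function.comp_apply]
  exact Equiv.sum_comp (σ⁻¹ : Equiv.Perm (Fin n)) (fun i => u i * (v i) ^ q)

/-- The symmetric group in the unitary group. -/
def permUnitary (n q : ℕ) : Equiv.Perm (Fin n) →* unitaryGL F n q :=
  (permGL (Fin n) F).codRestrict _ (permGL_mem_unitaryGL F n q)

/-- `U_k → U_{k+r}`. -/
def unitaryExtend (k r q : ℕ) : unitaryGL F k q →* unitaryGL F (k + r) q :=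
  (((glReindex finSumFinEquiv).toMonoidHom.comp (glExtend (Fin r))).comp
      (unitaryGL F k q).subtype).codRestrict _ fun A u v => by
    have h := A.2 (u ∘ finSumFinEquiv ∘ Sum.inl) (v ∘ finSumFinEquiv ∘ Sum.inl)
    simp only [Cfsg.hermForm, Units.coeHom_apply, Function.comp_def] at h
    simp only [Cfsg.hermForm, Units.coeHom_apply, MonoidHom.comp_apply, glExtend,
      Units.coe_map, glExtendHom, glReindex_coe, MulEquiv.toMonoidHom_eq_coe, MonoidHom.coe_coe,
      MonoidHom.coe_mk, OneHom.coe_mk,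
      Matrix.submatrix_mulVec_equiv, Subgroup.coe_subtype, Matrix.fromBlocks_mulVec]
    rw [← finSumFinEquiv.sum_comp]
    simp [Fintype.sum_sum_type, Function.comp_def]
    rw [← finSumFinEquiv.sum_comp (fun i => u i * (v i) ^ q), Fintype.sum_sum_type]
    simpa using h

theorem unitaryExtend_injective (k r q : ℕ) : Function.Injective (unitaryExtend F k r q) :=
  fun _ _ h => Subtype.ext
    (glExtend_injective ((glReindex _).injective (congrArg Subtype.val h)))

/-- A hom into the unitary group, restricted to commutators, lands in `SU`. -/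
theorem isNonLaw_SU_of_unitary {w : FreeGroup ℕ} {n q : ℕ}
    (h : IsNonLaw w (commutator (unitaryGL F n q))) : IsNonLaw w (Cfsg.SU n F q) := by
  have hdet : ∀ x : unitaryGL F n q, x ∈ commutator (unitaryGL F n q) →
      ((x : GL (Fin n) F) : Matrix (Fin n) (Fin n) F).det = 1 := fun x hx =>
    Units.ext_iff.1 (Abelianization.commutator_subset_ker
      (Matrix.GeneralLinearGroup.det.comp (unitaryGL F n q).subtype) hx)
  let φ : commutator (unitaryGL F n q) →* Cfsg.SU n F q :=
    { toFun := fun x => ⟨⟨((x : unitaryGL F n q) : GL (Fin n) F), hdet x x.2⟩,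
        fun u v => (x : unitaryGL F n q).2 u v⟩
      map_one' := rfl
      map_mul' := fun _ _ => rfl }
  refine h.map φ fun a b hab => ?_
  exact Subtype.ext (Subtype.ext (Units.ext
    (congrArg (fun y : Cfsg.SU n F q => (y.1 : Matrix (Fin n) (Fin n) F)) hab)))

/-- `SL_n` receives the commutator of `GL_n`. -/
theorem isNonLaw_SL_of_gl {w : FreeGroup ℕ} {n : ℕ}
    (h : IsNonLaw w (commutator (GL (Fin n) F))) : IsNonLaw w SL(n, F) := by
  have hdet : ∀ x : GL (Fin n) F, x ∈ commutator (GL (Fin n) F) →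
      (x : Matrix (Fin n) (Fin n) F).det = 1 := fun x hx =>
    Units.ext_iff.1 (Abelianization.commutator_subset_ker Matrix.GeneralLinearGroup.det hx)
  let φ : commutator (GL (Fin n) F) →* SL(n, F) :=
    { toFun := fun x => ⟨((x : GL (Fin n) F) : Matrix (Fin n) (Fin n) F), hdet x x.2⟩
      map_one' := rfl
      map_mul' := fun _ _ => rfl }
  refine h.map φ fun a b hab => ?_
  exact Subtype.ext (Units.ext
    (congrArg (fun y : SL(n, F) => (y : Matrix (Fin n) (Fin n) F)) hab))

/-- `SL₂ → GL_n` for `n ≥ 2`. -/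
theorem exists_slTwo_to_gl (n : ℕ) (hn : 2 ≤ n) :
    ∃ φ : SL(2, F) →* GL (Fin n) F, Function.Injective φ := by
  obtain ⟨r, rfl⟩ := Nat.exists_eq_add_of_le hn
  exact ⟨((glReindex finSumFinEquiv).toMonoidHom.comp (glExtend (Fin r))).comp
      Matrix.SpecialLinearGroup.toGL,
    fun _ _ h => Matrix.SpecialLinearGroup.toGL_injective
      (glExtend_injective ((glReindex finSumFinEquiv).injective h))⟩

end Classical

end CfsgLib.GroupLaws
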