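import Cfsg.Agent.Lib.GroupLaws.Embed

/-!
`SL₂` of a subfield with at least `q - 1` elements embeds into the unitary group in two variables over the field
with `q²` elements.
-/

namespace CfsgLib.GroupLaws

open Matrix
open scoped MatrixGroups

variable {F : Type*} [Field F]

theorem mem_unitaryGL_of_gram {n q : ℕ} (σ : F →+* F) (hσ : ∀ x, σ x = x ^ q) (M : GL (Fin n) F)
    (h : (M : Matrix (Fin n) (Fin n) F)ᵀ * (M : Matrix (Fin n) (Fin n) F).map σ = 1) :
    M ∈ unitaryGL F n q := by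
  intro u v
  have e : ∀ a b : Fin n → F, Cfsg.hermForm n F q a b = a ⬝ᵥ (σ ∘ b) := fun a b => by
    simp [Cfsg.hermForm, dotProduct, hσ]
  have e2 : σ ∘ ((M : Matrix (Fin n) (Fin n) F) *ᵥ v) =
      (M : Matrix (Fin n) (Fin n) F).map σ *ᵥ (σ ∘ v) :=
    funext fun i => RingHom.map_mulVec σ _ v i
  simp only [Units.coeHom_apply, e, e2, Matrix.dotProduct_mulVec, ← Matrix.mulVec_transpose,
    Matrix.mulVec_mulVec]
  have h2 : ((M : Matrix (Fin n) (Fin n) F).map σ)ᵀ * (M : Matrix (Fin n) (Fin n) F) = 1 := by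
    have := congrArg Matrix.transpose h
    simpa [Matrix.transpose_mul] using this
  rw [h2, Matrix.one_mulVec]

theorem exists_slTwo_to_unitary [Fintype F] {q : ℕ} (hF : Fintype.card F = q ^ 2) :
    ∃ (K : Subfield F) (φ : SL(2, K) →* unitaryGL F 2 q),
      q - 1 ≤ Nat.card K ∧ Function.Injective φ := by
  classical
  obtain ⟨p, hpchar⟩ := CharP.exists F
  obtain ⟨n, hp, hn⟩ := FiniteField.card F p
  have := Fact.mk hp
  obtain ⟨k, -, hk⟩ := (Nat.dvd_prime_pow hp).1
    (show q ∣ p ^ (n : ℕ) from ⟨q, by rw [← hn, hF]; ring⟩)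
  let σ : F →+* F := iterateFrobenius F p k
  have hσ : ∀ x, σ x = x ^ q := fun x => by simp [σ, iterateFrobenius_def, hk]
  have hσσ : ∀ x, σ (σ x) = x := fun x => by
    rw [hσ, hσ, ← pow_mul, ← sq, ← hF, FiniteField.pow_card]
  have hq2 : 2 ≤ q := by
    by_contra hlt
    have h1 := Fintype.one_lt_card (α := F)
    have h2 : q ^ 2 ≤ 1 ^ 2 := Nat.pow_le_pow_left (by omega) 2
    rw [hF] at h1
    omega
  obtain ⟨g, hg⟩ := IsCyclic.exists_generator (α := Fˣ)
  have hord : orderOf g = q ^ 2 - 1 := by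
    rw [orderOf_eq_card_of_forall_mem_zpowers hg, Nat.card_eq_fintype_card, Fintype.card_units, hF]
  have hfac : q ^ 2 - 1 = (q + 1) * (q - 1) := by
    simpa using Nat.sq_sub_sq q 1
  have hgq : σ (g : F) ≠ g := by
    intro h
    have h1 : g ^ (q - 1) = 1 := by
      rw [hσ, ← Units.val_pow_eq_pow_val, Units.ext_iff.symm] at h
      rw [show q = (q - 1) + 1 by omega, pow_succ] at h
      exact mul_eq_right.1 h
    have h2 := Nat.le_of_dvd (by omega) (orderOf_dvd_of_pow_eq_one h1)
    rw [hord, hfac] at h2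
    nlinarith [show 1 ≤ q - 1 by omega]
  let K : Subfield F := RingHom.eqLocusField σ (RingHom.id F)
  have hK : ∀ x : K, σ (x : F) = x := fun x => x.2
  have hcard : q - 1 ≤ Nat.card K := by
    let c : Fin (q - 1) → K := fun i => ⟨((g ^ ((q + 1) * (i : ℕ)) : Fˣ) : F), by
      show σ ((g ^ ((q + 1) * (i : ℕ)) : Fˣ) : F) = ((g ^ ((q + 1) * (i : ℕ)) : Fˣ) : F)
      rw [hσ, ← Units.val_pow_eq_pow_val, ← pow_mul]
      congr 1
      rw [pow_eq_pow_iff_modEq, hord, hfac]
      have e : (q + 1) * (i : ℕ) * q = (q + 1) * (i : ℕ) + (q + 1) * (q - 1) * (i : ℕ) := by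
        obtain ⟨t, rfl⟩ : ∃ t, q = t + 1 := ⟨q - 1, by omega⟩
        simp only [Nat.add_sub_cancel]
        ring
      rw [e]
      simp [Nat.ModEq, Nat.add_mul_mod_self_left]⟩
    have hc : Function.Injective c := by
      intro i j hij
      have h : g ^ ((q + 1) * (i : ℕ)) = g ^ ((q + 1) * (j : ℕ)) :=
        Units.ext (congrArg Subtype.val hij :)
      have hb : ∀ l : Fin (q - 1), (q + 1) * (l : ℕ) < orderOf g := fun l => by
        rw [hord, hfac]
        exact Nat.mul_lt_mul_of_pos_left l.2 (by omega)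
      exact Fin.ext (Nat.eq_of_mul_eq_mul_left (by omega : 0 < q + 1)
        (pow_injOn_Iio_orderOf (hb i) (hb j) h))
    simpa using Nat.card_le_card_of_injective c hc
  obtain ⟨e, he⟩ : ∃ e : F, e * σ e = -1 := by
    obtain ⟨j, hj⟩ := Submonoid.mem_powers_iff _ _ |>.1
      (mem_powers_iff_mem_zpowers.2 (hg (-1)))
    have h1 : ((-1 : Fˣ)) ^ (q - 1) = 1 := by
      have h := hσ (-1)
      rw [map_neg, map_one, show q = (q - 1) + 1 by omega, pow_succ, mul_neg_one] at h
      ext
      simpa using (neg_injective h).symm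
    rw [← hj, ← pow_mul] at h1
    have hdvd := orderOf_dvd_of_pow_eq_one h1
    rw [hord, hfac] at hdvd
    obtain ⟨i, hi⟩ := Nat.dvd_of_mul_dvd_mul_right (by omega) hdvd
    refine ⟨((g ^ i : Fˣ) : F), ?_⟩
    rw [hσ, ← Units.val_pow_eq_pow_val, ← Units.val_mul, ← pow_succ', ← pow_mul, mul_comm,
      ← hi, hj, Units.val_neg, Units.val_one]
  obtain ⟨e', he', hne⟩ : ∃ e' : F, e' * σ e' = -1 ∧ e' ≠ e := by
    refine ⟨e * (σ (g : F) / g), ?_, ?_⟩
    · rw [map_mul, map_div₀, hσσ]
      have h0 : σ (g : F) ≠ 0 := (map_ne_zero σ).2 g.ne_zero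
      field_simp
      linear_combination he
    · intro h
      have he0 : e ≠ 0 := fun h0 => by simp [h0] at he
      rw [mul_eq_left₀ he0, div_eq_one_iff_eq g.ne_zero] at h
      exact hgq h
  have hh : 1 + e * σ e' ≠ 0 := by
    intro h
    apply hne
    linear_combination e' * h - e * he'
  obtain ⟨μ, hμ0, hμ⟩ : ∃ μ : F, μ ≠ 0 ∧ σ μ = -μ :=
    ⟨g - σ g, sub_ne_zero.2 (Ne.symm hgq), by rw [map_sub, hσσ]; ring⟩
  let l : F := σ (μ / (1 + e * σ e'))
  have hl : σ l * (1 + e * σ e') = μ := by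
    simp only [l, hσσ]
    field_simp
  have hl0 : l ≠ 0 := by
    intro h
    rw [h] at hl
    simp [hμ0.symm] at hl
  let C : GL (Fin 2) F := Matrix.GeneralLinearGroup.mkOfDetNeZero !![1, l; e, l * e'] (by
    rw [Matrix.det_fin_two_of]
    have : 1 * (l * e') - l * e = l * (e' - e) := by ring
    rw [this]
    exact mul_ne_zero hl0 (sub_ne_zero.2 hne))
  have hH : (C : Matrix (Fin 2) (Fin 2) F)ᵀ * (C : Matrix (Fin 2) (Fin 2) F).map σ =
      !![0, μ; -μ, 0] := by
    have h10 : l + l * e' * σ e = -μ := by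
      rw [← hμ, ← hl]
      simp only [map_mul, map_add, map_one, hσσ]
      ring
    ext i j
    fin_cases i <;> fin_cases j <;>
      simp [C, Matrix.mul_apply, Fin.sum_univ_two, map_mul]
    · linear_combination he
    · linear_combination hl
    · linear_combination h10
    · linear_combination (l * σ l) * he'
  let incl : SL(2, K) →* GL (Fin 2) F :=
    Matrix.SpecialLinearGroup.toGL.comp (Matrix.SpecialLinearGroup.map K.subtype)
  have hinv : ∀ G : SL(2, K), ((incl G : GL (Fin 2) F) : Matrix (Fin 2) (Fin 2) F)ᵀ *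
      !![0, μ; -μ, 0] * ((incl G : GL (Fin 2) F) : Matrix (Fin 2) (Fin 2) F).map σ =
      !![0, μ; -μ, 0] := by
    intro G
    have hd := congrArg K.subtype G.det_coe
    rw [Matrix.det_fin_two] at hd
    simp only [map_sub, map_mul, map_one, Subfield.coe_subtype] at hd
    ext i j
    fin_cases i <;> fin_cases j <;>
      simp [incl, Matrix.mul_apply, Fin.sum_univ_two, Matrix.SpecialLinearGroup.map_apply_coe, hK]
    · ring
    · linear_combination μ * hd
    · linear_combination (-μ) * hd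
    · ring
  have hmem : ∀ G : SL(2, K), (MulAut.conj C) (incl G) ∈ unitaryGL F 2 q := by
    intro G
    refine mem_unitaryGL_of_gram σ hσ _ ?_
    simp only [MulAut.conj_apply, Units.val_mul, Matrix.transpose_mul, Matrix.map_mul]
    calc _ = ((C⁻¹ : GL (Fin 2) F) : Matrix (Fin 2) (Fin 2) F)ᵀ *
          (((incl G : GL (Fin 2) F) : Matrix (Fin 2) (Fin 2) F)ᵀ *
            ((C : Matrix (Fin 2) (Fin 2) F)ᵀ * (C : Matrix (Fin 2) (Fin 2) F).map σ) *
            ((incl G : GL (Fin 2) F) : Matrix (Fin 2) (Fin 2) F).map σ) *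
          ((C⁻¹ : GL (Fin 2) F) : Matrix (Fin 2) (Fin 2) F).map σ := by
            simp only [Matrix.mul_assoc]
      _ = ((C : Matrix (Fin 2) (Fin 2) F) *
            ((C⁻¹ : GL (Fin 2) F) : Matrix (Fin 2) (Fin 2) F))ᵀ *
          ((C : Matrix (Fin 2) (Fin 2) F) *
            ((C⁻¹ : GL (Fin 2) F) : Matrix (Fin 2) (Fin 2) F)).map σ := by
            rw [hH, hinv, ← hH, Matrix.transpose_mul, Matrix.map_mul]
            simp only [Matrix.mul_assoc]
      _ = 1 := by simp [Matrix.map_one]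
  refine ⟨K, ((MulAut.conj C).toMonoidHom.comp incl).codRestrict _ hmem, hcard, ?_⟩
  intro a b h
  have h1 : incl a = incl b := (MulAut.conj C).injective (congrArg Subtype.val h)
  have h2 := Matrix.SpecialLinearGroup.toGL_injective h1
  ext i j
  have h3 := congrArg (fun M : SL(2, F) => M i j) h2
  simpa [Matrix.SpecialLinearGroup.map_apply_coe] using h3

end CfsgLib.GroupLaws
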